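import Cfsg.Agent.H713.B0R.FiSeven

/-!
# `Fi24`: elements of order 3 and transpositions (helper713, for helper58)
-/

set_option autoImplicit false
set_option maxRecDepth 100000

namespace Cfsg.Agent.H713.S8.TrThree

open Cfsg Cfsg.Agent Subgroup Equiv
open Cfsg.Agent.R08.FiTwentyFour (L)
open Cfsg.Agent.H842.Seven
open Cfsg.Agent.H713.B0R.FiSeven
open Cfsg.Spor (Fi24)

/-- an element moving fewer than all transpositions commutes with one -/
theorem exists_comm {w : Fi24} (h : cM w < 306936) : ∃ d ∈ L, Commute w d := by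
  by_contra hcon
  push Not at hcon
  have h1 : Mv w = L := by
    ext d
    exact ⟨fun h => h.1, fun h => ⟨h, hcon d h⟩⟩
  unfold cM at h
  rw [h1, Cfsg.Agent.R08.FiTwentyFour.ncard_L] at h
  exact absurd h (lt_irrefl _)

/-- the transposition `(0 3)` of `S₇` -/
noncomputable def d0 : Fi24 := Psi (swap 0 3)

theorem d0_mem : d0 ∈ L := Psi_mem_L (by decide)

theorem comm_perm : swap (0 : Fin 7) 3 * (τ * swap 0 3 * τ⁻¹) = (τ * swap 0 3 * τ⁻¹) * swap 0 3 := by decide +kernel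
theorem ne_perm : swap (0 : Fin 7) 3 ≠ τ * swap 0 3 * τ⁻¹ := by decide +kernel
theorem comm_perm' : swap (0 : Fin 7) 3 * (τ⁻¹ * swap 0 3 * τ) = (τ⁻¹ * swap 0 3 * τ) * swap 0 3 := by decide +kernel
theorem ne_perm' : swap (0 : Fin 7) 3 ≠ τ⁻¹ * swap 0 3 * τ := by decide +kernel

theorem w1_comm : Commute d0 (w1 * d0 * w1⁻¹) ∧ d0 ≠ w1 * d0 * w1⁻¹ := by
  have e : w1 * d0 * w1⁻¹ = Psi (τ * swap 0 3 * τ⁻¹) := by
    rw [map_mul, map_mul, map_inv]; rfl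
  rw [e]
  refine ⟨?_, fun h => ne_perm (Psi_injective h)⟩
  show Psi (swap 0 3) * Psi _ = Psi _ * Psi (swap 0 3)
  rw [← map_mul, ← map_mul, comm_perm]

theorem w1_comm' : Commute d0 (w1⁻¹ * d0 * w1) ∧ d0 ≠ w1⁻¹ * d0 * w1 := by
  have e : w1⁻¹ * d0 * w1 = Psi (τ⁻¹ * swap 0 3 * τ) := by
    rw [map_mul, map_mul, map_inv]; rfl
  rw [e]
  refine ⟨?_, fun h => ne_perm' (Psi_injective h)⟩
  show Psi (swap 0 3) * Psi _ = Psi _ * Psi (swap 0 3)
  rw [← map_mul, ← map_mul, comm_perm']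

theorem cM_lt {i : Fin 5} {z : Fi24} (hi : i = 0 ∨ i = 1 ∨ i = 3) (h : Cl i z) : cM z < 306936 := by
  rw [h.cM_eq]
  rcases hi with rfl | rfl | rfl
  · rw [cM0]; norm_num
  · rw [cM1]; norm_num
  · rw [cM3]; norm_num

/-- **an element of order 3 commutes with a transposition, or has an orbit of commuting transpositions** -/
theorem tr3' {z : Fi24} (h3 : z ^ 3 = 1) (h1 : z ≠ 1) : (∃ d ∈ L, d * z = z * d) ∨
    (∃ d ∈ L, Commute d (z * d * z⁻¹) ∧ d ≠ z * d * z⁻¹) := by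
  obtain ⟨i, hi⟩ := exists_cl h3 h1
  have fin : ∀ {w : Fi24}, cM w < 306936 → ∃ d ∈ L, d * w = w * d := fun hw => by
    obtain ⟨d, hd, hc⟩ := exists_comm hw
    exact ⟨d, hd, hc.eq.symm⟩
  have key : i = 2 ∨ i = 4 → (∃ d ∈ L, d * z = z * d) ∨ (∃ d ∈ L, Commute d (z * d * z⁻¹) ∧ d ≠ z * d * z⁻¹) := by
    intro h24
    rcases cl_cases h24 with hz | hw
    · left
      apply fin
      rw [hi.cM_eq, ← hz.cM_eq, cMz]
      norm_num
    · right
      obtain ⟨g, hg⟩ := hi.conj hw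
      refine ⟨g⁻¹ * d0 * g, ?_, ?_⟩
      · have h4 := Cfsg.Agent.R08.FiTwentyFour.conj d0_mem g⁻¹
        rwa [inv_inv] at h4
      · have conjc : ∀ {a : Fi24}, Commute d0 a → Commute (g⁻¹ * d0 * g) (g⁻¹ * a * g) := by
          intro a ha
          have h5 := ha.map (MulAut.conj g⁻¹).toMonoidHom
          have h6 : Commute (g⁻¹ * d0 * g⁻¹⁻¹) (g⁻¹ * a * g⁻¹⁻¹) := h5
          rwa [inv_inv] at h6
        have conjn : ∀ {a : Fi24}, d0 ≠ a → g⁻¹ * d0 * g ≠ g⁻¹ * a * g := fun ha h =>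
          ha (mul_left_cancel (mul_right_cancel h))
        rcases hg with hg | hg
        · have e : z * (g⁻¹ * d0 * g) * z⁻¹ = g⁻¹ * (w1 * d0 * w1⁻¹) * g := by rw [← hg]; group
          rw [e]
          exact ⟨conjc w1_comm.1, conjn w1_comm.2⟩
        · have hw1 : w1 = (g * z * g⁻¹)⁻¹ := by rw [hg, inv_inv]
          have e : z * (g⁻¹ * d0 * g) * z⁻¹ = g⁻¹ * (w1⁻¹ * d0 * w1) * g := by rw [hw1]; group
          rw [e]
          exact ⟨conjc w1_comm'.1, conjn w1_comm'.2⟩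
  fin_cases i
  · exact Or.inl (fin (cM_lt (Or.inl rfl) hi))
  · exact Or.inl (fin (cM_lt (Or.inr (Or.inl rfl)) hi))
  · exact key (Or.inl rfl)
  · exact Or.inl (fin (cM_lt (Or.inr (Or.inr rfl)) hi))
  · exact key (Or.inr rfl)

/-- **(TR3)** -/
theorem tr3 {z : Fi24} (h3 : z ^ 3 = 1) (h1 : z ≠ 1) : (∃ d ∈ L, d * z = z * d) ∨
    (∃ d ∈ L, z ^ 2 * d * (z ^ 2)⁻¹ ≠ (z * d * z⁻¹) * d * (z * d * z⁻¹)) := by
  rcases tr3' h3 h1 with h | ⟨d, hd, hc, hne⟩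
  · exact Or.inl h
  · right
    refine ⟨d, hd, fun h => hne ?_⟩
    have h4 : (z * d * z⁻¹) * (z * d * z⁻¹) = 1 := Cfsg.Agent.R08.FiTwentyFour.sq (Cfsg.Agent.R08.FiTwentyFour.conj hd z)
    have h5 : (z * d * z⁻¹) * d * (z * d * z⁻¹) = d := by
      rw [← hc.eq, mul_assoc, h4, mul_one]
    rw [h5] at h
    -- `z² d z⁻² = d`, hence `z d z⁻¹ = z⁻¹... `
    have h6 : z * (z ^ 2 * d * (z ^ 2)⁻¹) * z⁻¹ = d := by
      have e : z * (z ^ 2 * d * (z ^ 2)⁻¹) * z⁻¹ = z ^ 3 * d * (z ^ 3)⁻¹ := by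
        rw [pow_succ' z 2]; group
      rw [e, h3]; group
    rw [h] at h6
    exact h6.symm

end Cfsg.Agent.H713.S8.TrThree
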